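import Mathlib
import Cfsg.Agent.Lib.Helper58.QSim.MonoDefs
import Cfsg.Agent.Lib.Helper94.QSim.Rank
import Cfsg.Agent.Lib.Helper94.QSim.IsoCop

/-!
# QSim package [MBRIDGE], part A: the decomposition `V = R ⊕ ker (y - 1)`

`R = range (y - 1)` for an isometry `y` with `f(y)(y - 1) = 0`; the polar form is nondegenerate on
`R`, `R ⊥ ker (y - 1)`, and isometries of `R` extend (by the identity) to isometries of `Q`.
-/

set_option autoImplicit false
open scoped MatrixGroups Matrix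

namespace Cfsg.Agent.Lib.Helper94.QSim

open Cfsg.Agent.Lib.Helper58.QSim

universe u

section
variable {F : Type u} [Field F] {n : ℕ}

/-- The matrix data of an isometry `Y` (inverse `Z`, Gram matrix `G`) with `f(Y)(Y-1) = 0`. -/
structure IsoData (G Y Z : Matrix (Fin n) (Fin n) F) (f : Polynomial F) : Prop where
  hG : IsUnit G.det
  hsymm : Gᵀ = G
  hYZ : Y * Z = 1
  hZY : Z * Y = 1
  hiso : Yᵀ * G * Y = G
  hf : Irreducible f
  hd : 2 ≤ f.natDegree
  hfN : Polynomial.aeval Y f * (Y - 1) = 0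

/-- `R = range (Y - 1)`. -/
def rangeSub (Y : Matrix (Fin n) (Fin n) F) : Submodule F (Fin n → F) :=
  LinearMap.range (Matrix.mulVecLin (Y - 1))

/-- `ker (Y - 1)`. -/
def kerSub (Y : Matrix (Fin n) (Fin n) F) : Submodule F (Fin n → F) :=
  LinearMap.ker (Matrix.mulVecLin (Y - 1))

theorem mem_rangeSub {Y : Matrix (Fin n) (Fin n) F} {w : Fin n → F} :
    w ∈ rangeSub Y ↔ ∃ x, (Y - 1) *ᵥ x = w := by
  rw [rangeSub, LinearMap.mem_range]
  simp only [Matrix.mulVecLin_apply]

theorem mem_kerSub {Y : Matrix (Fin n) (Fin n) F} {w : Fin n → F} :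
    w ∈ kerSub Y ↔ Y *ᵥ w = w := by
  rw [kerSub, LinearMap.mem_ker, Matrix.mulVecLin_apply, Matrix.sub_mulVec, Matrix.one_mulVec,
    sub_eq_zero]

namespace IsoData

variable {G Y Z : Matrix (Fin n) (Fin n) F} {f : Polynomial F} (D : IsoData G Y Z f)
include D

theorem h2 : Yᵀ * G = G * Z := by
  calc Yᵀ * G = Yᵀ * G * (Y * Z) := by rw [D.hYZ, Matrix.mul_one]
    _ = (Yᵀ * G * Y) * Z := by rw [Matrix.mul_assoc, Matrix.mul_assoc, Matrix.mul_assoc]
    _ = G * Z := by rw [D.hiso]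

theorem hB : (Y - 1)ᵀ * G = -(G * Z * (Y - 1)) := by
  rw [Matrix.transpose_sub, Matrix.transpose_one, Matrix.sub_mul, D.h2, Matrix.one_mul,
    Matrix.mul_sub, Matrix.mul_one, Matrix.mul_assoc G Z Y, D.hZY, Matrix.mul_one]
  abel

theorem G_inj {w : Fin n → F} (h : G *ᵥ w = 0) : w = 0 := by
  have := congrArg (fun t => G⁻¹ *ᵥ t) h
  simpa [Matrix.mulVec_mulVec, Matrix.nonsing_inv_mul G D.hG] using this

theorem Z_inj {w : Fin n → F} (h : Z *ᵥ w = 0) : w = 0 := by
  have := congrArg (fun t => Y *ᵥ t) h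
  simpa [Matrix.mulVec_mulVec, D.hYZ] using this

theorem fixed_zero {u : Fin n → F} (h1 : Y *ᵥ u = u)
    (h2 : Polynomial.aeval Y f *ᵥ u = 0) : u = 0 := by
  obtain ⟨q, hq⟩ := Polynomial.X_sub_C_dvd_sub_C_eval (a := (1 : F)) (p := f)
  have e1 := congrArg (Polynomial.aeval Y) hq
  rw [mul_comm, map_mul, map_sub, map_sub, Polynomial.aeval_X, Polynomial.aeval_C,
    Polynomial.aeval_C, map_one] at e1
  have e2 : Polynomial.aeval Y f
      = Polynomial.aeval Y q * (Y - 1)
        + (algebraMap F (Matrix (Fin n) (Fin n) F)) (f.eval 1) := by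
    rw [← e1]; abel
  rw [e2, Matrix.add_mulVec, ← Matrix.mulVec_mulVec, Matrix.sub_mulVec, Matrix.one_mulVec, h1,
    sub_self, Matrix.mulVec_zero, zero_add, Algebra.algebraMap_eq_smul_one, Matrix.smul_mulVec,
    Matrix.one_mulVec] at h2
  rcases smul_eq_zero.mp h2 with h | h
  · exact absurd h (eval_one_ne_zero D.hf D.hd)
  · exact h

theorem disjoint_aux {x : Fin n → F} (h : Y *ᵥ ((Y - 1) *ᵥ x) = (Y - 1) *ᵥ x) :
    (Y - 1) *ᵥ x = 0 := by
  apply D.fixed_zero h
  rw [Matrix.mulVec_mulVec, D.hfN, Matrix.zero_mulVec]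

theorem orth (x c : Fin n → F) (hc : Y *ᵥ c = c) : ((Y - 1) *ᵥ x) ⬝ᵥ G *ᵥ c = 0 := by
  have hNc : (Y - 1) *ᵥ c = 0 := by rw [Matrix.sub_mulVec, Matrix.one_mulVec, hc, sub_self]
  rw [← Matrix.vecMul_transpose (Y - 1) x, ← Matrix.dotProduct_mulVec, Matrix.mulVec_mulVec,
    D.hB, Matrix.neg_mulVec, ← Matrix.mulVec_mulVec, hNc, Matrix.mulVec_zero, neg_zero,
    dotProduct_zero]

theorem nondeg_aux {x : Fin n → F}
    (h : ∀ v, ((Y - 1) *ᵥ x) ⬝ᵥ G *ᵥ ((Y - 1) *ᵥ v) = 0) : (Y - 1) *ᵥ x = 0 := by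
  set u := (Y - 1) *ᵥ x with hu
  have h1 : (G * (Y - 1))ᵀ *ᵥ u = 0 := by
    apply dotProduct_eq_zero
    intro v
    rw [Matrix.mulVec_transpose, ← Matrix.dotProduct_mulVec, ← Matrix.mulVec_mulVec]
    exact h v
  rw [Matrix.transpose_mul, D.hsymm, D.hB, Matrix.neg_mulVec, neg_eq_zero,
    ← Matrix.mulVec_mulVec, ← Matrix.mulVec_mulVec] at h1
  have h3 : (Y - 1) *ᵥ u = 0 := D.Z_inj (D.G_inj h1)
  rw [Matrix.sub_mulVec, Matrix.one_mulVec, sub_eq_zero] at h3
  exact D.disjoint_aux h3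

theorem isCompl : IsCompl (rangeSub Y) (kerSub Y) := by
  have hdim : Module.finrank F (Fin n → F)
      ≤ Module.finrank F (rangeSub Y) + Module.finrank F (kerSub Y) := by
    unfold rangeSub kerSub
    rw [LinearMap.finrank_range_add_finrank_ker]
  rw [Submodule.isCompl_iff_disjoint _ _ hdim]
  rw [Submodule.disjoint_def]
  intro w hw hk
  obtain ⟨x, rfl⟩ := mem_rangeSub.mp hw
  exact D.disjoint_aux (mem_kerSub.mp hk)

end IsoData

/-! ### Extension of automorphisms of a direct summand -/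

section Ext
variable {V : Type*} [AddCommGroup V] [Module F V] {R C : Submodule F V}

/-- Extend an automorphism of `R` by the identity on the complement `C`. -/
noncomputable def extEquiv (h : IsCompl R C) (m : R ≃ₗ[F] R) : V ≃ₗ[F] V :=
  (Submodule.prodEquivOfIsCompl R C h).symm ≪≫ₗ
    ((m.prodCongr (LinearEquiv.refl F C)) ≪≫ₗ (Submodule.prodEquivOfIsCompl R C h))

theorem extEquiv_apply (h : IsCompl R C) (m : R ≃ₗ[F] R) (r : R) (c : C) :
    extEquiv h m ((r : V) + (c : V)) = (m r : V) + (c : V) := by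
  have e : (Submodule.prodEquivOfIsCompl R C h).symm ((r : V) + (c : V)) = (r, c) := by
    rw [LinearEquiv.symm_apply_eq]; rfl
  unfold extEquiv
  rw [LinearEquiv.trans_apply, e, LinearEquiv.trans_apply, LinearEquiv.prodCongr_apply,
    Submodule.coe_prodEquivOfIsCompl']
  rfl

theorem exists_decomp (h : IsCompl R C) (v : V) : ∃ (r : R) (c : C), v = (r : V) + (c : V) :=
  ⟨((Submodule.prodEquivOfIsCompl R C h).symm v).1, ((Submodule.prodEquivOfIsCompl R C h).symm v).2,
    ((Submodule.prodEquivOfIsCompl R C h).apply_symm_apply v).symm⟩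

/-- The extension as a group homomorphism. -/
noncomputable def extHom (h : IsCompl R C) : (R ≃ₗ[F] R) →* (V ≃ₗ[F] V) where
  toFun := extEquiv h
  map_one' := by
    ext v
    obtain ⟨r, c, rfl⟩ := exists_decomp h v
    rw [extEquiv_apply]; rfl
  map_mul' a b := by
    ext v
    obtain ⟨r, c, rfl⟩ := exists_decomp h v
    rw [LinearEquiv.mul_apply, extEquiv_apply, extEquiv_apply, extEquiv_apply]; rfl

theorem extHom_injective (h : IsCompl R C) : Function.Injective (extHom (F := F) h) := by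
  intro a b hab
  ext r
  have e := congrArg (fun t : V ≃ₗ[F] V => t ((r : V) + ((0 : C) : V))) hab
  simp only [extHom, MonoidHom.coe_mk, OneHom.coe_mk] at e
  rw [extEquiv_apply, extEquiv_apply] at e
  exact add_right_cancel e

end Ext

/-- Linear automorphisms of `F^n` as invertible matrices. -/
noncomputable def toGLEquiv (F : Type u) [Field F] (n : ℕ) :
    ((Fin n → F) ≃ₗ[F] (Fin n → F)) ≃* GL (Fin n) F :=
  (LinearMap.GeneralLinearGroup.generalLinearEquiv F (Fin n → F)).symm.trans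
    Matrix.GeneralLinearGroup.toLin.symm

theorem toGLEquiv_mulVec (e : (Fin n → F) ≃ₗ[F] (Fin n → F)) (v : Fin n → F) :
    ((toGLEquiv F n e : GL (Fin n) F) : Matrix (Fin n) (Fin n) F) *ᵥ v = e v := by
  have h1 : Matrix.GeneralLinearGroup.toLin (toGLEquiv F n e)
      = (LinearMap.GeneralLinearGroup.generalLinearEquiv F (Fin n → F)).symm e := by
    unfold toGLEquiv
    rw [MulEquiv.trans_apply, MulEquiv.apply_symm_apply]
  have h2 : LinearMap.GeneralLinearGroup.generalLinearEquiv F (Fin n → F)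
      (Matrix.GeneralLinearGroup.toLin (toGLEquiv F n e)) = e := by
    rw [h1, MulEquiv.apply_symm_apply]
  have h3 := congrArg (fun t : (Fin n → F) ≃ₗ[F] (Fin n → F) => t v) h2
  simp only [LinearMap.GeneralLinearGroup.coeFn_generalLinearEquiv] at h3
  rw [← h3, Matrix.GeneralLinearGroup.toLin_apply, Matrix.mulVecLin_apply]

/-! ### The quadratic form side -/

theorem gramMat_transpose {Q : (Fin n → F) → F}
    (hB : Cfsg.Geo.IsBilinearForm (QuadraticMap.polar Q)) : (gramMat hB)ᵀ = gramMat hB := by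
  ext i j
  rw [Matrix.transpose_apply]
  unfold gramMat
  rw [LinearMap.toMatrix₂'_apply, LinearMap.toMatrix₂'_apply]
  exact QuadraticMap.polar_comm Q _ _

theorem polar_self {Q : (Fin n → F) → F} (hQ : Cfsg.Geo.IsNondegenerateQuadraticForm Q)
    (v : Fin n → F) : QuadraticMap.polar Q v v = 2 * Q v := by
  have h := hQ.smul 2 v
  have e : v + v = (2 : F) • v := by rw [two_smul]
  unfold QuadraticMap.polar
  rw [e, h]; ring

theorem Q_add (Q : (Fin n → F) → F) (a b : Fin n → F) :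
    Q (a + b) = Q a + Q b + QuadraticMap.polar Q a b := by
  unfold QuadraticMap.polar; ring

/-- The matrix data attached to an isometry. -/
theorem isoData_of {Q : (Fin n → F) → F} (hQ : Cfsg.Geo.IsNondegenerateQuadraticForm Q)
    {y : GL (Fin n) F} (hy : Isom Q y) {f : Polynomial F} (hf : Irreducible f)
    (hd : 2 ≤ f.natDegree) (hfy : pv f y * sh y 1 = 0) :
    IsoData (gramMat hQ.polar_bilinear) (y : Matrix (Fin n) (Fin n) F)
      ((y⁻¹ : GL (Fin n) F) : Matrix (Fin n) (Fin n) F) f := by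
  have hc : ∀ v, Q ((y : Matrix (Fin n) (Fin n) F) *ᵥ v) = (1 : F) * Q v := by
    intro v; rw [one_mul]; exact hy v
  have hsim := gramMat_sim hQ.polar_bilinear hc
  rw [one_smul] at hsim
  refine ⟨gramMat_det_isUnit hQ, gramMat_transpose _, Units.mul_inv y, Units.inv_mul y, hsim, hf,
    hd, ?_⟩
  have := hfy
  unfold pv sh at this
  rwa [one_smul] at this

variable {Q : (Fin n → F) → F} (hQ : Cfsg.Geo.IsNondegenerateQuadraticForm Q)
  {Y Z : Matrix (Fin n) (Fin n) F} {f : Polynomial F}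
  (D : IsoData (gramMat hQ.polar_bilinear) Y Z f)
include D

theorem polar_range_ker {r c : Fin n → F} (hr : r ∈ rangeSub Y) (hc : c ∈ kerSub Y) :
    QuadraticMap.polar Q r c = 0 := by
  obtain ⟨x, rfl⟩ := mem_rangeSub.mp hr
  rw [polar_eq_gramMat hQ.polar_bilinear]
  exact D.orth x c (mem_kerSub.mp hc)

/-- The polar form is nondegenerate on `R`. -/
theorem polar_nondeg_range (u : rangeSub Y) (hu : u ≠ 0) :
    ∃ v : rangeSub Y, QuadraticMap.polar Q (u : Fin n → F) (v : Fin n → F) ≠ 0 := by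
  by_contra hcon
  simp only [not_exists, not_not] at hcon
  apply hu
  obtain ⟨x, hx⟩ := mem_rangeSub.mp u.2
  have h0 : (Y - 1) *ᵥ x = 0 := by
    apply D.nondeg_aux
    intro v
    rw [← polar_eq_gramMat hQ.polar_bilinear, hx]
    exact hcon ⟨(Y - 1) *ᵥ v, mem_rangeSub.mpr ⟨v, rfl⟩⟩
  exact Subtype.ext (hx.symm.trans h0)

/-- Extension of a group of isometries of `R` to a group of isometries of `Q`. -/
theorem exists_ext_subgroup (h2 : (2 : F) ≠ 0) (M₀ : Subgroup (rangeSub Y ≃ₗ[F] rangeSub Y))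
    (hM₀ : ∀ m ∈ M₀, ∀ u v : rangeSub Y,
      QuadraticMap.polar Q ((m u : rangeSub Y) : Fin n → F) ((m v : rangeSub Y) : Fin n → F)
        = QuadraticMap.polar Q (u : Fin n → F) (v : Fin n → F)) :
    ∃ M : Subgroup (GL (Fin n) F), (∀ m ∈ M, Isom Q m) ∧ Nat.card M = Nat.card M₀ := by
  have hcompl := D.isCompl
  set ψ : (rangeSub Y ≃ₗ[F] rangeSub Y) →* GL (Fin n) F :=
    (toGLEquiv F n).toMonoidHom.comp (extHom hcompl) with hψ
  have hinj : Function.Injective ψ := by
    rw [hψ]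
    exact (toGLEquiv F n).injective.comp (extHom_injective hcompl)
  refine ⟨M₀.map ψ, ?_, ?_⟩
  · rintro m ⟨m₀, hm₀, rfl⟩ v
    obtain ⟨r, c, rfl⟩ := exists_decomp hcompl v
    have e1 : ((ψ m₀ : GL (Fin n) F) : Matrix (Fin n) (Fin n) F) *ᵥ ((r : Fin n → F) + c)
        = ((m₀ r : rangeSub Y) : Fin n → F) + c := by
      rw [hψ]
      simp only [MonoidHom.coe_comp, MulEquiv.coe_toMonoidHom, Function.comp_apply]
      rw [toGLEquiv_mulVec]
      exact extEquiv_apply hcompl m₀ r c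
    rw [e1, Q_add Q, Q_add Q, polar_range_ker hQ D (m₀ r).2 c.2, polar_range_ker hQ D r.2 c.2]
    have e2 : Q ((m₀ r : rangeSub Y) : Fin n → F) = Q (r : Fin n → F) := by
      have h3 := hM₀ m₀ hm₀ r r
      rw [polar_self hQ, polar_self hQ] at h3
      exact mul_left_cancel₀ h2 h3
    rw [e2]
  · exact (Nat.card_congr (M₀.equivMapOfInjective ψ hinj).toEquiv).symm

end

end Cfsg.Agent.Lib.Helper94.QSim
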