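import Mathlib
import Cfsg.Agent.Lib.Helper58.QSim.MonoDefs
import Cfsg.Agent.Lib.Helper94.QSim.MBridgeA

/-!
# QSim package [MBRIDGE]: `PkgHMono → PkgMono`

`R = range (y - 1)` becomes a vector space over `K = F[X]/(f)` through `y`; the polar form
restricted to `R` is hermitian with respect to the automorphism `root ↦ root⁻¹` of `K`.
-/

set_option autoImplicit false
set_option linter.style.haveILetI false
open scoped MatrixGroups Matrix

namespace Cfsg.Agent.Lib.Helper94.QSim

open Cfsg.Agent.Lib.Helper58.QSim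

universe u

section
variable {F : Type u} [Field F] {n : ℕ}

theorem coe_aeval_apply {Y : Matrix (Fin n) (Fin n) F} {R : Submodule F (Fin n → F)}
    (τ : Module.End F R) (hτ : ∀ w : R, ((τ w : R) : Fin n → F) = Y *ᵥ (w : Fin n → F))
    (g : Polynomial F) : ∀ w : R,
      ((Polynomial.aeval τ g w : R) : Fin n → F) = Polynomial.aeval Y g *ᵥ (w : Fin n → F) := by
  induction g using Polynomial.induction_on with
  | C a =>
    intro w
    rw [Polynomial.aeval_C, Polynomial.aeval_C, Module.algebraMap_end_apply,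
      Algebra.algebraMap_eq_smul_one, Matrix.smul_mulVec, Matrix.one_mulVec]
    rfl
  | add p q hp hq =>
    intro w
    rw [map_add, map_add, LinearMap.add_apply, Submodule.coe_add, hp, hq, Matrix.add_mulVec]
  | monomial k a ih =>
    intro w
    have e1 : Polynomial.aeval τ (Polynomial.C a * Polynomial.X ^ (k + 1))
        = Polynomial.aeval τ (Polynomial.C a * Polynomial.X ^ k) * τ := by
      rw [pow_succ, ← mul_assoc, map_mul, Polynomial.aeval_X]
    have e2 : Polynomial.aeval Y (Polynomial.C a * Polynomial.X ^ (k + 1))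
        = Polynomial.aeval Y (Polynomial.C a * Polynomial.X ^ k) * Y := by
      rw [pow_succ, ← mul_assoc, map_mul, Polynomial.aeval_X]
    rw [e1, e2, Module.End.mul_apply, ih, hτ, Matrix.mulVec_mulVec]

theorem mulVec_mem_rangeSub (Y : Matrix (Fin n) (Fin n) F) {w : Fin n → F}
    (hw : w ∈ rangeSub Y) : Y *ᵥ w ∈ rangeSub Y := by
  obtain ⟨x, rfl⟩ := mem_rangeSub.mp hw
  refine mem_rangeSub.mpr ⟨Y *ᵥ x, ?_⟩
  rw [Matrix.mulVec_mulVec, Matrix.mulVec_mulVec]
  congr 1
  rw [Matrix.sub_mul, Matrix.mul_sub, Matrix.one_mul, Matrix.mul_one]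

/-- `Y` restricted to `R = range (Y - 1)`. -/
noncomputable def tauEnd (Y : Matrix (Fin n) (Fin n) F) : Module.End F (rangeSub Y) :=
  (Matrix.mulVecLin Y).restrict (fun _ hw => mulVec_mem_rangeSub Y hw)

theorem tauEnd_coe (Y : Matrix (Fin n) (Fin n) F) (w : rangeSub Y) :
    ((tauEnd Y w : rangeSub Y) : Fin n → F) = Y *ᵥ (w : Fin n → F) := rfl

theorem aeval_tauEnd_eq_zero {Y : Matrix (Fin n) (Fin n) F} {f : Polynomial F}
    (hfN : Polynomial.aeval Y f * (Y - 1) = 0) : Polynomial.aeval (tauEnd Y) f = 0 := by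
  apply LinearMap.ext
  intro w
  apply Subtype.ext
  rw [coe_aeval_apply (tauEnd Y) (tauEnd_coe Y)]
  obtain ⟨x, hx⟩ := mem_rangeSub.mp w.2
  rw [← hx, Matrix.mulVec_mulVec, hfN, Matrix.zero_mulVec]
  rfl

/-- The action of `F[X]/(f)` on `R`. -/
noncomputable def kAct {Y : Matrix (Fin n) (Fin n) F} {f : Polynomial F}
    (hfN : Polynomial.aeval Y f * (Y - 1) = 0) :
    AdjoinRoot f →ₐ[F] Module.End F (rangeSub Y) :=
  Ideal.Quotient.liftₐ (Ideal.span {f}) (Polynomial.aeval (tauEnd Y)) (by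
    intro a ha
    obtain ⟨b, rfl⟩ := Ideal.mem_span_singleton.mp ha
    rw [map_mul, aeval_tauEnd_eq_zero hfN, zero_mul])

theorem kAct_mk {Y : Matrix (Fin n) (Fin n) F} {f : Polynomial F}
    (hfN : Polynomial.aeval Y f * (Y - 1) = 0) (g : Polynomial F) :
    kAct hfN (AdjoinRoot.mk f g) = Polynomial.aeval (tauEnd Y) g := rfl

end

/-- Package [MBRIDGE] of project QSim. -/
theorem pkgMono_of (hH : PkgHMono.{u}) : PkgMono.{u} := by
  intro F _ _ n e k Q y f hodd hQ hy hf hdeg he hrev hfy hrank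
  classical
  have h2 : (2 : F) ≠ 0 := by
    intro h
    have h3 : ringChar F = 2 :=
      CharP.ringChar_of_prime_eq_zero Nat.prime_two (by exact_mod_cast h)
    have h4 := FiniteField.even_card_iff_char_two.mp h3
    rcases hodd with ⟨t, ht⟩
    omega
  have hd : 2 ≤ f.natDegree := by omega
  have D := isoData_of hQ hy hf hd hfy
  set Y : Matrix (Fin n) (Fin n) F := (y : Matrix (Fin n) (Fin n) F) with hY
  set Z : Matrix (Fin n) (Fin n) F := ((y⁻¹ : GL (Fin n) F) : Matrix (Fin n) (Fin n) F) with hZ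
  haveI : Fact (Irreducible f) := ⟨hf⟩
  haveI : Module.Finite F (AdjoinRoot f) := (AdjoinRoot.powerBasis hf.ne_zero).finite
  haveI : Finite (AdjoinRoot f) := Module.finite_of_finite F
  letI : Fintype (AdjoinRoot f) := Fintype.ofFinite _
  let φ : AdjoinRoot f →ₐ[F] Module.End F (rangeSub Y) := kAct D.hfN
  letI : Module (AdjoinRoot f) (rangeSub Y) :=
    Module.compHom (rangeSub Y) (φ : AdjoinRoot f →+* Module.End F (rangeSub Y))
  have hsmul : ∀ (a : AdjoinRoot f) (w : rangeSub Y), a • w = φ a w := fun _ _ => rfl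
  haveI : IsScalarTower F (AdjoinRoot f) (rangeSub Y) := ⟨fun c a w => by
    rw [hsmul, hsmul, map_smul, LinearMap.smul_apply]⟩
  haveI : Module.Finite (AdjoinRoot f) (rangeSub Y) :=
    Module.Finite.of_restrictScalars_finite F _ _
  -- the root and its inverse
  have hroot0 : AdjoinRoot.root f ≠ 0 := by
    intro h0
    rw [← AdjoinRoot.mk_X, AdjoinRoot.mk_eq_zero] at h0
    have := Polynomial.natDegree_le_of_dvd h0 Polynomial.X_ne_zero
    rw [Polynomial.natDegree_X] at this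
    omega
  have hinvroot : Polynomial.aeval (AdjoinRoot.root f)⁻¹ f = 0 := by
    obtain ⟨c, hc⟩ := hrev
    have h1 : Polynomial.aeval (AdjoinRoot.root f) f.reverse = 0 := by
      rw [hc, map_mul, AdjoinRoot.aeval_eq, AdjoinRoot.mk_self, zero_mul]
    rw [aeval_reverse_eq (mul_inv_cancel₀ hroot0)] at h1
    exact (mul_eq_zero.mp h1).resolve_left (pow_ne_zero _ hroot0)
  let σ₀ : AdjoinRoot f →ₐ[F] AdjoinRoot f :=
    AdjoinRoot.liftAlgHom f (Algebra.ofId F (AdjoinRoot f)) (AdjoinRoot.root f)⁻¹ hinvroot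
  have hσ₀root : σ₀ (AdjoinRoot.root f) = (AdjoinRoot.root f)⁻¹ :=
    AdjoinRoot.liftAlgHom_root _ _ _ _
  have hσ₀mk : ∀ g : Polynomial F,
      σ₀ (AdjoinRoot.mk f g) = Polynomial.aeval (AdjoinRoot.root f)⁻¹ g := fun g => rfl
  have hcomp : σ₀.comp σ₀ = AlgHom.id F (AdjoinRoot f) := by
    apply AdjoinRoot.algHom_ext
    rw [AlgHom.comp_apply, hσ₀root, map_inv₀, hσ₀root, inv_inv]
    rfl
  let σ : AdjoinRoot f ≃ₐ[F] AdjoinRoot f := AlgEquiv.ofAlgHom σ₀ σ₀ hcomp hcomp
  have hσ : ∀ a, σ a = σ₀ a := fun _ => rfl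
  let β : LinearMap.BilinForm F (rangeSub Y) :=
    (polarBil hQ.polar_bilinear).domRestrict₁₂ (rangeSub Y) (rangeSub Y)
  have hβ : ∀ u v : rangeSub Y,
      β u v = QuadraticMap.polar Q (u : Fin n → F) (v : Fin n → F) := fun _ _ => rfl
  have hφroot : φ (AdjoinRoot.root f) = tauEnd Y := by
    rw [← AdjoinRoot.mk_X]
    show Polynomial.aeval (tauEnd Y) Polynomial.X = _
    rw [Polynomial.aeval_X]
  have hρ : ∀ w : rangeSub Y,
      ((φ (AdjoinRoot.root f)⁻¹ w : rangeSub Y) : Fin n → F) = Z *ᵥ (w : Fin n → F) := by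
    intro w
    have h1 : φ (AdjoinRoot.root f) * φ (AdjoinRoot.root f)⁻¹ = 1 := by
      rw [← map_mul, mul_inv_cancel₀ hroot0, map_one]
    have h3 : Y *ᵥ ((φ (AdjoinRoot.root f)⁻¹ w : rangeSub Y) : Fin n → F)
        = (w : Fin n → F) := by
      have h4 := congrArg
        (fun t : Module.End F (rangeSub Y) => ((t w : rangeSub Y) : Fin n → F)) h1
      simp only [Module.End.mul_apply, Module.End.one_apply] at h4
      rw [hφroot] at h4
      exact h4
    calc ((φ (AdjoinRoot.root f)⁻¹ w : rangeSub Y) : Fin n → F)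
        = (Z * Y) *ᵥ ((φ (AdjoinRoot.root f)⁻¹ w : rangeSub Y) : Fin n → F) := by
          rw [D.hZY, Matrix.one_mulVec]
      _ = Z *ᵥ (Y *ᵥ ((φ (AdjoinRoot.root f)⁻¹ w : rangeSub Y) : Fin n → F)) := by
          rw [Matrix.mulVec_mulVec]
      _ = Z *ᵥ (w : Fin n → F) := by rw [h3]
  have hadj : ∀ (a : AdjoinRoot f) (u v : rangeSub Y), β (a • u) v = β u (σ a • v) := by
    intro a u v
    obtain ⟨g, rfl⟩ := AdjoinRoot.mk_surjective a
    rw [hβ, hβ, hsmul, hsmul, hσ, hσ₀mk]
    have e1 : ((φ (AdjoinRoot.mk f g) u : rangeSub Y) : Fin n → F)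
        = Polynomial.aeval Y g *ᵥ (u : Fin n → F) :=
      coe_aeval_apply (tauEnd Y) (tauEnd_coe Y) g u
    have e2 : ((φ (Polynomial.aeval (AdjoinRoot.root f)⁻¹ g) v : rangeSub Y) : Fin n → F)
        = Polynomial.aeval Z g *ᵥ (v : Fin n → F) := by
      rw [← Polynomial.aeval_algHom_apply]
      exact coe_aeval_apply _ hρ g v
    rw [e1, e2, polar_eq_gramMat hQ.polar_bilinear, polar_eq_gramMat hQ.polar_bilinear,
      ← Matrix.vecMul_transpose (Polynomial.aeval Y g) (u : Fin n → F),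
      ← Matrix.dotProduct_mulVec, Matrix.mulVec_mulVec, transpose_aeval_mul D.h2,
      ← Matrix.mulVec_mulVec]
  have hfinK : Module.finrank F (AdjoinRoot f) = 2 * e := by
    rw [(AdjoinRoot.powerBasis hf.ne_zero).finrank, AdjoinRoot.powerBasis_dim, hdeg]
  have hcardK : Fintype.card (AdjoinRoot f) = Fintype.card F ^ (2 * e) := by
    rw [Module.card_eq_pow_finrank (K := F) (V := AdjoinRoot f), hfinK]
  have hfinrank : Module.finrank (AdjoinRoot f) (rangeSub Y) = k := by
    have h1 := Module.finrank_mul_finrank F (AdjoinRoot f) (rangeSub Y)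
    have h3 : Module.finrank F (rangeSub Y) = k * (2 * e) := by
      rw [← hrank]
      unfold sh
      rw [one_smul]
      rfl
    rw [hfinK, h3] at h1
    exact Nat.eq_of_mul_eq_mul_left (by omega : 0 < 2 * e) (by rw [h1, mul_comm])
  have hσσ : ∀ a, σ (σ a) = a := by
    intro a
    rw [hσ, hσ]
    exact congrArg (fun h : AdjoinRoot f →ₐ[F] AdjoinRoot f => h a) hcomp
  have hσne : ∃ a, σ a ≠ a := by
    refine ⟨AdjoinRoot.root f, ?_⟩
    rw [hσ, hσ₀root]
    intro h
    have h1 : AdjoinRoot.root f * AdjoinRoot.root f = 1 := by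
      nth_rewrite 1 [← h]
      exact inv_mul_cancel₀ hroot0
    have h3 : AdjoinRoot.mk f ((Polynomial.X - Polynomial.C 1) * (Polynomial.X + Polynomial.C 1))
        = 0 := by
      rw [map_mul, map_sub, map_add, AdjoinRoot.mk_X, map_one, map_one]
      linear_combination h1
    rw [AdjoinRoot.mk_eq_zero] at h3
    rcases hf.prime.dvd_or_dvd h3 with h4 | h4
    · have := Polynomial.natDegree_le_of_dvd h4 (Polynomial.X_sub_C_ne_zero 1)
      rw [Polynomial.natDegree_X_sub_C] at this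
      omega
    · have := Polynomial.natDegree_le_of_dvd h4 (Polynomial.X_add_C_ne_zero 1)
      rw [Polynomial.natDegree_X_add_C] at this
      omega
  have hsymm : ∀ u v : rangeSub Y, β u v = β v u := by
    intro u v
    rw [hβ, hβ]
    exact QuadraticMap.polar_comm Q _ _
  have hnondeg : ∀ u : rangeSub Y, u ≠ 0 → ∃ v, β u v ≠ 0 :=
    fun u hu => polar_nondeg_range hQ D u hu
  obtain ⟨M₀, hM₀, hdvd⟩ := hH F (AdjoinRoot f) (rangeSub Y) σ β e k hodd hcardK hσσ hσne hsymm
    hnondeg hadj hfinrank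
  obtain ⟨M, hM, hcard⟩ := exists_ext_subgroup hQ D h2 M₀ (fun m hm u v => hM₀ m hm u v)
  exact ⟨M, hM, hcard ▸ hdvd⟩

end Cfsg.Agent.Lib.Helper94.QSim
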